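import Groth.Agent.Dual.H366.ExtQCoh
import Groth.Agent.CohqA.AffSec
import Groth.Agent.Krr.H487.ExtPull
import Mathlib.AlgebraicGeometry.Modules.Tilde

/-!
# Exterior powers of quasi-coherent modules are quasi-coherent; the affine case

* `phi_eres`: compatibility of the identifications of `IsExtPow` with restriction, on all elements;
* `isQCoh_of_isExtPow`: an exterior power of a quasi-coherent module is quasi-coherent;
* `extS_bijective`: bijectivity of the map induced on exterior powers by a bijective semilinear map;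
* `isExtPow_tilde`: `(⋀^n M)~` is the `n`-th exterior power of `M~`.
-/

set_option autoImplicit false

universe u

open CategoryTheory CategoryTheory.Limits AlgebraicGeometry Opposite TopologicalSpace
open Groth.Agent.Sga67.Sec Groth.Agent.Fdesc
open Groth.Agent.Krr.H495.ExtSemi Groth.Agent.Krr.H495.ExtPre
open Groth.Agent.Sga67.ExtSheaf

namespace K586.ExtTilde

variable {X : Scheme.{u}}

theorem phi_eres {i : ℕ} {E L : X.Modules} (φ : Phi i E L) (hφ : PhiComp φ) (U V : X.affineOpens)
    (h : V.1 ≤ U.1) (y : ⋀[Γ(X, U.1)]^i (Sec E U.1)) :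
    res L h ((φ U).symm y) = (φ V).symm (eres i E h y) := by
  have hy : y ∈ Submodule.span Γ(X, U.1)
      (Set.range (exteriorPower.ιMulti Γ(X, U.1) i (M := Sec E U.1))) := by
    rw [exteriorPower.ιMulti_span]; trivial
  induction hy using Submodule.span_induction with
  | mem x hx => obtain ⟨e, rfl⟩ := hx; rw [hφ, eres_ιMulti]
  | zero => rw [map_zero, map_zero, map_zero, map_zero]
  | add x y _ _ hx hy => rw [map_add, map_add, map_add, map_add, hx, hy]
  | smul a x _ hx =>
    have e1 : (φ U).symm (a • x) = a • (φ U).symm x := map_smul (φ U).symm a x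
    have e2 : (φ V).symm (eres i E h (a • x)) = resO X h a • (φ V).symm (eres i E h x) := by
      rw [LinearMap.map_smulₛₗ]
      exact map_smul (φ V).symm _ _
    rw [e1, e2, ← hx]
    exact res_smul L h a _

theorem phi_res {i : ℕ} {E L : X.Modules} (φ : Phi i E L) (hφ : PhiComp φ) (U V : X.affineOpens)
    (h : V.1 ≤ U.1) (s : Sec L U.1) :
    φ V (res L h s) = eres i E h (φ U s) := by
  have := phi_eres φ hφ U V h (φ U s)
  rw [LinearEquiv.symm_apply_apply] at this
  rw [this, LinearEquiv.apply_symm_apply]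

/-- Exterior powers of quasi-coherent modules are quasi-coherent. -/
theorem isQCoh_of_isExtPow {i : ℕ} {E L : X.Modules} (hE : Coh.IsQCoh E)
    (hL : ExtPow.IsExtPow i E L) : Coh.IsQCoh L := by
  obtain ⟨φ, hφ⟩ := exists_phi hL
  refine Groth.Agent.CohqA.AffSec.isQCoh_of_loc L fun x => ?_
  obtain ⟨_, ⟨U, hU, rfl⟩, hx, -⟩ := X.isBasis_affineOpens.exists_subset_of_mem_open
    (Set.mem_univ x) isOpen_univ
  refine ⟨U, hU, hx, ?_, ?_⟩
  · intro g s hs
    let U' : X.affineOpens := ⟨U, hU⟩
    let V' : X.affineOpens := ⟨X.basicOpen g, hU.basicOpen g⟩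
    let i1 := QCohStalk.resModule E (X.basicOpen_le g)
    let i2 : Algebra Γ(X, U) Γ(X, X.basicOpen g) := (resO X (X.basicOpen_le g)).toAlgebra
    have i3 : IsScalarTower Γ(X, U) Γ(X, X.basicOpen g) Γ(E, X.basicOpen g) :=
      ⟨fun a b c => by rw [Algebra.smul_def, mul_smul]; rfl⟩
    have i4 : IsLocalization (.powers g) Γ(X, X.basicOpen g) := hU.isLocalization_basicOpen g
    have i5 := QCohStalk.isLocalizedModule_res E hU hE g
    have hs' : eres i E (X.basicOpen_le g) (φ U' s) = 0 := by
      have := phi_res φ hφ U' V' (X.basicOpen_le g) s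
      rw [show res L (X.basicOpen_le g) s = 0 from hs, map_zero] at this
      exact this.symm
    obtain ⟨⟨_, k, rfl⟩, hk⟩ := Groth.Agent.Dual.H366.ExtLoc.exists_smul_eq_zero
      (B := Γ(X, X.basicOpen g)) (.powers g)
      (QCohStalk.resₗ E (X.basicOpen_le g)) i (φ U' s) hs'
    refine ⟨k, (φ U').injective ?_⟩
    exact ((map_smul (φ U') (g ^ k) s).trans hk).trans (map_zero (φ U')).symm
  · intro g t
    let U' : X.affineOpens := ⟨U, hU⟩
    let V' : X.affineOpens := ⟨X.basicOpen g, hU.basicOpen g⟩
    let i1 := QCohStalk.resModule E (X.basicOpen_le g)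
    let i2 : Algebra Γ(X, U) Γ(X, X.basicOpen g) := (resO X (X.basicOpen_le g)).toAlgebra
    have i3 : IsScalarTower Γ(X, U) Γ(X, X.basicOpen g) Γ(E, X.basicOpen g) :=
      ⟨fun a b c => by rw [Algebra.smul_def, mul_smul]; rfl⟩
    have i4 : IsLocalization (.powers g) Γ(X, X.basicOpen g) := hU.isLocalization_basicOpen g
    have i5 := QCohStalk.isLocalizedModule_res E hU hE g
    obtain ⟨⟨_, k, rfl⟩, s, hs⟩ := Groth.Agent.Dual.H366.ExtLoc.exists_smul_eq_extS
      (B := Γ(X, X.basicOpen g)) (.powers g)
      (QCohStalk.resₗ E (X.basicOpen_le g)) i (φ V' t)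
    refine ⟨k, (φ U').symm s, ?_⟩
    have h1 := phi_eres φ hφ U' V' (X.basicOpen_le g) s
    refine h1.trans ?_
    apply (φ V').injective
    rw [LinearEquiv.apply_symm_apply]
    refine (show eres i E (X.basicOpen_le g) s = _ from hs.symm).trans ?_
    refine Eq.trans ?_ (map_smul (φ V') _ t).symm
    rw [← map_pow]
    rfl

section Bij

variable {A B : Type*} [CommRing A] [CommRing B]
  {M N : Type*} [AddCommGroup M] [Module A M] [AddCommGroup N] [Module B N]

theorem extS_bijective (i : ℕ) {ρ : A →+* B} (hρ : Function.Bijective ρ) (g : M →ₛₗ[ρ] N)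
    (hg : Function.Bijective g) : Function.Bijective (extS i g) := by
  let e : A ≃+* B := RingEquiv.ofBijective ρ hρ
  let σ : B →+* A := e.symm
  have h1 : ∀ a, σ (ρ a) = a := fun a => e.symm_apply_apply a
  have h2 : ∀ b, ρ (σ b) = b := fun b => e.apply_symm_apply b
  let eg : M ≃ N := Equiv.ofBijective g hg
  let g' : N →ₛₗ[σ] M :=
    { toFun := eg.symm
      map_add' := fun x y => by
        apply hg.1
        refine Eq.trans ?_ (map_add g _ _).symm
        rw [show g (eg.symm (x + y)) = x + y from eg.apply_symm_apply _,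
          show g (eg.symm x) = x from eg.apply_symm_apply _,
          show g (eg.symm y) = y from eg.apply_symm_apply _]
      map_smul' := fun b x => by
        apply hg.1
        refine Eq.trans ?_ (LinearMap.map_smulₛₗ g _ _).symm
        rw [h2,
          show g (eg.symm (b • x)) = b • x from eg.apply_symm_apply _,
          show g (eg.symm x) = x from eg.apply_symm_apply _] }
  have t1 : RingHomCompTriple ρ σ (RingHom.id A) := ⟨RingHom.ext h1⟩
  have t2 : RingHomCompTriple σ ρ (RingHom.id B) := ⟨RingHom.ext h2⟩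
  have c1 : g'.comp g = LinearMap.id := by
    ext x
    exact eg.symm_apply_apply x
  have c2 : g.comp g' = LinearMap.id := by
    ext x
    exact eg.apply_symm_apply x
  refine Function.bijective_iff_has_inverse.mpr ⟨extS i g', fun x => ?_, fun x => ?_⟩
  · rw [extS_extS, c1, extS_id]
    rfl
  · rw [extS_extS, c2, extS_id]
    rfl

end Bij

section Tilde

variable {R : CommRingCat.{u}} (M : ModuleCat.{u} R)

/-- The identification of a module with the global sections of the associated sheaf, as a semilinear map. -/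
noncomputable def topS : M →ₛₗ[(Scheme.ΓSpecIso R).inv.hom] Sec (tilde M) ⊤ where
  toFun m := (tilde.toOpen M ⊤).hom m
  map_add' x y := map_add (tilde.toOpen M ⊤).hom x y
  map_smul' r m := by
    refine (map_smul (tilde.toOpen M ⊤).hom r m).trans ?_
    refine (Scheme.Modules.smul_Spec_def (M := tilde M) (U := ⊤) r _).trans ?_
    have : ((Spec R).presheaf.map (⊤ : (Spec R).Opens).leTop.op) = 𝟙 _ := by
      have h : (⊤ : (Spec R).Opens).leTop.op = 𝟙 _ := rfl
      rw [h]
      exact (Spec R).presheaf.map_id _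
    rw [this]
    rfl

theorem topS_bijective : Function.Bijective (topS M) := by
  have : IsIso (tilde.toOpen M ⊤) := inferInstance
  exact (ConcreteCategory.isIso_iff_bijective (tilde.toOpen M ⊤)).mp this

theorem ρ_bijective : Function.Bijective (Scheme.ΓSpecIso R).inv.hom := by
  exact (ConcreteCategory.isIso_iff_bijective (Scheme.ΓSpecIso R).inv).mp inferInstance

theorem isExtPow_tilde (n : ℕ) :
    ExtPow.IsExtPow n (tilde M) (tilde (R := R) (ModuleCat.of R (⋀[R]^n M))) := by
  have hE : Coh.IsQCoh (tilde M) := by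
    unfold Coh.IsQCoh
    infer_instance
  obtain ⟨L, hL⟩ := Groth.Agent.Dual.H366.ExtQCoh.exists_isExtPow n hE
  have hLq : Coh.IsQCoh L := isQCoh_of_isExtPow hE hL
  have hiso : IsIso L.fromTildeΓ := (isQuasicoherent_iff_isIso_fromTildeΓ L).mp hLq
  obtain ⟨φ, hφ⟩ := exists_phi hL
  let U : (Spec R).affineOpens := ⟨⊤, isAffineOpen_top _⟩
  let T : ModuleCat R := (modulesSpecToSheaf.obj L).presheaf.obj (.op ⊤)
  let f : ⋀[R]^n M →ₗ[R] T :=
    { toFun := fun y => (φ U).symm (extS n (topS M) y)
      map_add' := fun x y => by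
        rw [map_add]
        exact map_add (φ U).symm _ _
      map_smul' := fun r y => by
        rw [LinearMap.map_smulₛₗ]
        refine (map_smul (φ U).symm _ _).trans ?_
        refine Eq.trans ?_ (Scheme.Modules.smul_Spec_def (M := L) (U := ⊤) r _).symm
        have : ((Spec R).presheaf.map (⊤ : (Spec R).Opens).leTop.op) = 𝟙 _ := by
          have h : (⊤ : (Spec R).Opens).leTop.op = 𝟙 _ := rfl
          rw [h]
          exact (Spec R).presheaf.map_id _
        rw [this]
        rfl }
  have hf : Function.Bijective f := (φ U).symm.bijective.comp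
    (extS_bijective n ρ_bijective (topS M) (topS_bijective M))
  let e : ModuleCat.of R (⋀[R]^n M) ≅ T := (LinearEquiv.ofBijective f hf).toModuleIso
  refine Groth.Agent.Krr.H487.ExtPull.isExtPow_of_iso hL ?_
  exact ((tilde.functor R).mapIso e ≪≫ @asIso _ _ _ _ L.fromTildeΓ hiso).symm

end Tilde

end K586.ExtTilde
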