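import Groth.Agent.CohqB.HomSheafQCoh
import Groth.Agent.Sga2.PnHomAdj
import Groth.Agent.Desc.FPSections
import Groth.Agent.PerfC.FPSections
import Groth.Agent.AffSch.K586.ExtTilde

/-!
# The sheaf Hom of associated modules

* `conj`: conjugation of linear maps by semilinear bijections;
* `homSheaf_tilde_iso`: `Hom(M~, N~) ≅ Hom_R(M, N)~` for `M` finitely presented.
-/

set_option autoImplicit false

universe u

open CategoryTheory CategoryTheory.Limits AlgebraicGeometry Opposite TopologicalSpace
open Groth.Agent.CohqB.HomSheaf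

namespace K586.HomTilde

section Conj

variable {A B : Type*} [CommRing A] [CommRing B]
  {M N M' N' : Type*} [AddCommGroup M] [Module A M] [AddCommGroup N] [Module A N]
  [AddCommGroup M'] [Module B M'] [AddCommGroup N'] [Module B N']

/-- Conjugation of linear maps by semilinear bijections. -/
theorem exists_conj {ρ : A →+* B} (hρ : Function.Surjective ρ) (g : M →ₛₗ[ρ] M') (hg : Function.Bijective g)
    (h : N →ₛₗ[ρ] N') (hh : Function.Bijective h) :
    ∃ c : (M →ₗ[A] N) →ₛₗ[ρ] (M' →ₗ[B] N'), Function.Bijective c ∧ ∀ φ m, c φ (g m) = h (φ m) := by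
  let eg : M ≃ M' := Equiv.ofBijective g hg
  have hgs : ∀ m, g (eg.symm m) = m := eg.apply_symm_apply
  have hsg : ∀ m, eg.symm (g m) = m := eg.symm_apply_apply
  let c₀ : (M →ₗ[A] N) → (M' →ₗ[B] N') := fun φ =>
    { toFun := fun m => h (φ (eg.symm m))
      map_add' := fun x y => by
        rw [← map_add, ← map_add]
        congr 2
        apply hg.1
        refine (hgs _).trans ?_
        rw [map_add, hgs, hgs]
      map_smul' := fun b x => by
        obtain ⟨a, rfl⟩ := hρ b
        rw [RingHom.id_apply, ← LinearMap.map_smulₛₗ h, ← map_smul φ]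
        congr 2
        apply hg.1
        refine (hgs _).trans ?_
        rw [LinearMap.map_smulₛₗ, hgs] }
  have hc₀ : ∀ φ m, c₀ φ (g m) = h (φ m) := fun φ m => by
    show h (φ (eg.symm (g m))) = _
    rw [hsg]
  refine ⟨{ toFun := c₀, map_add' := fun φ ψ => ?_, map_smul' := fun a φ => ?_ }, ⟨?_, ?_⟩, hc₀⟩
  · refine LinearMap.ext fun m => ?_
    exact map_add h _ _
  · refine LinearMap.ext fun m => ?_
    exact LinearMap.map_smulₛₗ h _ _
  · intro φ ψ hφψ
    refine LinearMap.ext fun m => hh.1 ?_
    have : c₀ φ (g m) = c₀ ψ (g m) := congrArg (fun k : M' →ₗ[B] N' => k (g m)) hφψ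
    rwa [hc₀, hc₀] at this
  · intro ψ
    let eh : N ≃ N' := Equiv.ofBijective h hh
    have hhs : ∀ n, h (eh.symm n) = n := eh.apply_symm_apply
    let φ : M →ₗ[A] N :=
      { toFun := fun m => eh.symm (ψ (g m))
        map_add' := fun x y => by
          apply hh.1
          refine (hhs _).trans ?_
          rw [map_add, map_add, map_add, hhs, hhs]
        map_smul' := fun a x => by
          apply hh.1
          refine (hhs _).trans ?_
          rw [LinearMap.map_smulₛₗ, map_smul, RingHom.id_apply, LinearMap.map_smulₛₗ, hhs] }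
    refine ⟨φ, LinearMap.ext fun m => ?_⟩
    obtain ⟨m, rfl⟩ := hg.2 m
    refine (hc₀ φ m).trans ?_
    exact hhs _

end Conj

variable {R : CommRingCat.{u}} (M N : ModuleCat.{u} R)

theorem isQCoh_tilde : Coh.IsQCoh (tilde M) := by
  unfold Coh.IsQCoh
  infer_instance

theorem fp_top [Module.FinitePresentation R M] :
    Module.FinitePresentation Γ(Spec R, ⊤) Γ(tilde M, ⊤) :=
  Groth.Agent.Desc.FPSections.finitePresentation_sections (isAffineOpen_top (Spec R)) (isQCoh_tilde M)
    (Groth.Agent.PerfC.FPSections.isFP_tilde (R := R) M)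

theorem isQCoh_homSheaf_tilde [Module.FinitePresentation R M] :
    Coh.IsQCoh (homSheaf (tilde M) (tilde N)) := by
  refine isQCoh_homSheaf_of_cover (isQCoh_tilde M) (isQCoh_tilde N) (fun _ : PUnit.{1} => ⊤)
    ?_ (fun _ => isAffineOpen_top _) fun _ => fp_top M
  exact top_le_iff.mp (le_iSup (fun _ : PUnit.{1} => (⊤ : (Spec R).Opens)) PUnit.unit)

theorem nonempty_homSheaf_tilde_iso [Module.FinitePresentation R M] :
    Nonempty (homSheaf (tilde M) (tilde N) ≅ tilde (R := R) (ModuleCat.of R (M →ₗ[R] N))) := by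
  have hLq := isQCoh_homSheaf_tilde M N
  have hiso : IsIso (homSheaf (tilde M) (tilde N)).fromTildeΓ :=
    (isQuasicoherent_iff_isIso_fromTildeΓ _).mp hLq
  obtain ⟨c, hc, -⟩ := exists_conj K586.ExtTilde.ρ_bijective.2 (K586.ExtTilde.topS M)
    (K586.ExtTilde.topS_bijective M) (K586.ExtTilde.topS N) (K586.ExtTilde.topS_bijective N)
  let T : ModuleCat R := (modulesSpecToSheaf.obj (homSheaf (tilde M) (tilde N))).presheaf.obj (.op ⊤)
  let a := affineEquiv (M := tilde M) (N := tilde N) (isQCoh_tilde M) (isAffineOpen_top (Spec R))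
  let f : (M →ₗ[R] N) →ₗ[R] T :=
    { toFun := fun y => a.symm (c y)
      map_add' := fun x y => by
        rw [map_add]
        exact map_add a.symm _ _
      map_smul' := fun r y => by
        rw [LinearMap.map_smulₛₗ]
        refine (map_smul a.symm _ _).trans ?_
        refine Eq.trans ?_ (Scheme.Modules.smul_Spec_def (M := homSheaf (tilde M) (tilde N)) (U := ⊤) r _).symm
        have : ((Spec R).presheaf.map (⊤ : (Spec R).Opens).leTop.op) = 𝟙 _ := by
          have h : (⊤ : (Spec R).Opens).leTop.op = 𝟙 _ := rfl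
          rw [h]
          exact (Spec R).presheaf.map_id _
        rw [this]
        rfl }
  have hf : Function.Bijective f := a.symm.bijective.comp hc
  let e : ModuleCat.of R (M →ₗ[R] N) ≅ T := (LinearEquiv.ofBijective f hf).toModuleIso
  exact ⟨((tilde.functor R).mapIso e ≪≫ @asIso _ _ _ _ _ hiso).symm⟩

theorem nonempty_sheafHom_tilde_iso [Module.FinitePresentation R M] [DCoh.HasSheafHom (tilde M)] :
    Nonempty ((DCoh.sheafHom (tilde M)).obj (tilde N) ≅ tilde (R := R) (ModuleCat.of R (M →ₗ[R] N))) := by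
  obtain ⟨e⟩ := nonempty_homSheaf_tilde_iso M N
  exact ⟨(Groth.Agent.Sga2.PnHomAdj.sheafHomIso (tilde M)).app (tilde N) ≪≫ e⟩

end K586.HomTilde
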